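import Mathlib.NumberTheory.ZetaValues
import Mathlib.RingTheory.PowerSeries.Exp
import Mathlib.RingTheory.PowerSeries.Inverse
import Mathlib.Tactic.LinearCombination

/-! Leading terms of a Todd product in the parameter `p`. -/

open PowerSeries Finset

namespace Groth.Agent.ToddH28

local notation "B" => bernoulli'PowerSeries ℚ

theorem rescale_neg_one_mul_exp : rescale (-1 : ℚ) B * exp ℚ = B := by
  have h1 := congrArg (rescale (-1 : ℚ)) (bernoulli'PowerSeries_mul_exp_sub_one ℚ)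
  rw [map_mul, map_mul, map_sub, map_one, rescale_neg_one_X] at h1
  have h2 : exp ℚ * rescale (-1 : ℚ) (exp ℚ) = 1 := exp_mul_exp_neg_eq_one
  have h3 := bernoulli'PowerSeries_mul_exp_sub_one ℚ
  have hne : exp ℚ - 1 ≠ 0 := fun h => by
    have := congrArg (coeff 1) h
    simp at this
  refine mul_right_cancel₀ hne ?_
  linear_combination (-(exp ℚ) ^ 2) * h1 - h3 + (rescale (-1 : ℚ) B * exp ℚ + X * exp ℚ) * h2

/-- The factor independent of `p`. -/
noncomputable def K (n d : ℕ) (s : ℤ) : ℚ⟦X⟧ :=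
  (rescale (-(d : ℚ)) B)⁻¹ * B ^ (n + 1) * rescale (-(d : ℚ) - n - 1 + s) (exp ℚ)

theorem prod_eq (n d p : ℕ) (s : ℤ) :
    (rescale (-(d : ℚ)) B)⁻¹ * rescale (-((d : ℚ) * p)) B * B ^ (n + 1) *
      rescale ((d : ℚ) * p - d - n - 1 + s) (exp ℚ) = K n d s * rescale ((d : ℚ) * p) B := by
  have e1 : rescale (-((d : ℚ) * p)) B * rescale ((d : ℚ) * p) (exp ℚ) = rescale ((d : ℚ) * p) B := by
    conv_rhs => rw [← rescale_neg_one_mul_exp]
    rw [map_mul, rescale_rescale, neg_one_mul]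
  rw [show (d : ℚ) * p - d - n - 1 + s = (-(d : ℚ) - n - 1 + s) + (d : ℚ) * p by ring,
    ← exp_mul_exp_eq_exp_add, K]
  linear_combination ((rescale (-(d : ℚ)) B)⁻¹ * B ^ (n + 1) * rescale (-(d : ℚ) - n - 1 + s) (exp ℚ)) * e1

theorem coeff_B (j : ℕ) : coeff j B = bernoulli' j / (j.factorial : ℚ) := by
  simp [bernoulli'PowerSeries]

theorem constantCoeff_B : constantCoeff B = 1 := by
  rw [← coeff_zero_eq_constantCoeff_apply, coeff_B]; simp

theorem constantCoeff_rescale (c : ℚ) (f : ℚ⟦X⟧) : constantCoeff (rescale c f) = constantCoeff f := by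
  rw [← coeff_zero_eq_constantCoeff_apply, coeff_rescale]; simp

theorem K_zero (n d : ℕ) (s : ℤ) : coeff 0 (K n d s) = 1 := by
  simp [K, constantCoeff_inv, constantCoeff_rescale, constantCoeff_B]

theorem coeff_one_pow (f : ℚ⟦X⟧) (hf : constantCoeff f = 1) (m : ℕ) :
    coeff 1 (f ^ m) = m * coeff 1 f := by
  induction m with
  | zero => simp
  | succ m ih =>
    rw [pow_succ, coeff_one_mul, ih, map_pow, hf]
    push_cast
    ring

theorem K_one (n d : ℕ) (s : ℤ) : coeff 1 (K n d s) = (2 * (s : ℚ) - d - n - 1) / 2 := by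
  have hc : constantCoeff (rescale (-(d : ℚ)) B) = 1 := by rw [constantCoeff_rescale, constantCoeff_B]
  have hinv : coeff 1 (rescale (-(d : ℚ)) B)⁻¹ = (d : ℚ) / 2 := by
    have h := congrArg (coeff 1) (PowerSeries.mul_inv_cancel (rescale (-(d : ℚ)) B) (by rw [hc]; exact one_ne_zero))
    rw [coeff_one_mul, constantCoeff_inv, hc, coeff_one, coeff_rescale, coeff_B] at h
    simp at h
    linarith
  rw [K, coeff_one_mul, coeff_one_mul, coeff_one_pow _ constantCoeff_B, hinv, coeff_rescale, coeff_B]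
  simp [map_pow, constantCoeff_B, constantCoeff_inv, constantCoeff_rescale]
  ring

theorem coeff_eq (n d p : ℕ) (s : ℤ) :
    coeff n ((rescale (-(d : ℚ)) B)⁻¹ * rescale (-((d : ℚ) * p)) B * B ^ (n + 1) *
      rescale ((d : ℚ) * p - d - n - 1 + s) (exp ℚ)) =
      ∑ j ∈ range (n + 1), (coeff (n - j) (K n d s) * (bernoulli' j * (d : ℚ) ^ j / (j.factorial : ℚ))) * (p : ℚ) ^ j := by
  rw [prod_eq, mul_comm, coeff_mul, Finset.Nat.sum_antidiagonal_eq_sum_range_succ
    (fun a b => coeff a (rescale ((d : ℚ) * p) B) * coeff b (K n d s))]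
  refine Finset.sum_congr rfl fun j _ => ?_
  rw [coeff_rescale, coeff_B, mul_pow]
  ring

/-- A polynomial with negative top coefficient is eventually negative. -/
theorem eventually_neg {m : ℕ} (c : ℕ → ℚ) (h : c m < 0) :
    ∃ P : ℕ, ∀ p : ℕ, P ≤ p → ∑ j ∈ range (m + 1), c j * (p : ℚ) ^ j < 0 := by
  rcases m with - | m
  · exact ⟨0, fun p _ => by simpa using h⟩
  obtain ⟨P, hP⟩ := exists_nat_gt ((∑ j ∈ range (m + 1), |c j|) / -c (m + 1))
  refine ⟨P + 1, fun p hp => ?_⟩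
  have hp1 : (1 : ℚ) ≤ p := by exact_mod_cast (by omega : 1 ≤ p)
  have hPp : (P : ℚ) ≤ p := by exact_mod_cast (by omega : P ≤ p)
  rw [div_lt_iff₀ (neg_pos.2 h)] at hP
  rw [Finset.sum_range_succ]
  have h1 : ∑ j ∈ range (m + 1), c j * (p : ℚ) ^ j ≤ (∑ j ∈ range (m + 1), |c j|) * (p : ℚ) ^ m := by
    rw [Finset.sum_mul]
    refine Finset.sum_le_sum fun j hj => ?_
    calc c j * (p : ℚ) ^ j ≤ |c j| * (p : ℚ) ^ j := mul_le_mul_of_nonneg_right (le_abs_self _) (by positivity)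
      _ ≤ |c j| * (p : ℚ) ^ m := mul_le_mul_of_nonneg_left
          (pow_le_pow_right₀ hp1 (by have := mem_range.1 hj; omega)) (abs_nonneg _)
  have h2 : (∑ j ∈ range (m + 1), |c j|) + c (m + 1) * p < 0 := by nlinarith
  have h3 : ((∑ j ∈ range (m + 1), |c j|) + c (m + 1) * p) * (p : ℚ) ^ m < 0 :=
    mul_neg_of_neg_of_pos h2 (by positivity)
  rw [pow_succ]
  linarith

theorem sign_bernoulli' {n : ℕ} (k : ℕ) (hk : k ≠ 0) (hn : n = 2 * k) : 0 < (-1 : ℚ) ^ (k + 1) * bernoulli' n := by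
  subst hn
  have h := hasSum_zeta_nat hk
  have hpos : (0 : ℝ) < ∑' n : ℕ, 1 / (n : ℝ) ^ (2 * k) :=
    Summable.tsum_pos h.summable (fun i => by positivity) 1 (by simp)
  rw [h.tsum_eq] at hpos
  rw [← bernoulli_eq_bernoulli'_of_ne_one (by omega)]
  have : (0 : ℝ) < (((-1 : ℚ) ^ (k + 1) * bernoulli (2 * k) : ℚ) : ℝ) := by
    push_cast
    by_contra hle
    refine hpos.not_ge ?_
    have e : (-1 : ℝ) ^ (k + 1) * (2 : ℝ) ^ (2 * k - 1) * Real.pi ^ (2 * k) * (bernoulli (2 * k) : ℝ) / ((2 * k).factorial : ℝ) =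
        ((-1 : ℝ) ^ (k + 1) * (bernoulli (2 * k) : ℝ)) * ((2 : ℝ) ^ (2 * k - 1) * Real.pi ^ (2 * k) / ((2 * k).factorial : ℝ)) := by ring
    rw [e]
    exact mul_nonpos_of_nonpos_of_nonneg (not_lt.1 hle) (by positivity)
  exact_mod_cast this

end Groth.Agent.ToddH28
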